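import Groth.Agent.Lib.RelFrobFlat12.Basic
import Groth.Prelude.Def_FrobAlg
import Mathlib.RingTheory.Smooth.Basic
import Mathlib.Logic.Small.Basic

/-!
# The relative Frobenius of a smooth algebra is flat
-/

set_option autoImplicit false
set_option linter.style.haveILetI false
set_option backward.isDefEq.respectTransparency.types false
universe v u

open CategoryTheory CategoryTheory.Limits AlgebraicGeometry
open scoped TensorProduct

namespace Groth.Agent.RelFrobAlg28

variable (p : ℕ) [Fact p.Prime]

theorem relFrob_tmul {A : Type u} [CommRing A] [CharP A p] {B : Type v} [CommRing B] [Algebra A B]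
    [CharP B p] (b : B) (a : FrobAlg.Twist p A) :
    FrobAlg.relFrob p A B (b ⊗ₜ[A] a) = b ^ p * algebraMap A B ((FrobAlg.toTwist p A).symm a) := rfl

theorem frob_Spec (R : Type u) [CommRing R] [CharP R p] [FrobSch.IsCharP (Spec (CommRingCat.of R)) p] :
    FrobSch.frob (Spec (CommRingCat.of R)) p = Spec.map (CommRingCat.ofHom (frobenius R p)) := by
  refine AlgebraicGeometry.ext_of_isAffine ?_
  refine CommRingCat.hom_ext (RingHom.ext fun s => ?_)
  show (FrobSch.frob (Spec (CommRingCat.of R)) p).appTop s =
    (Spec.map (CommRingCat.ofHom (frobenius R p))).appTop s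
  rw [FrobSch.frob_appTop]
  apply ((ConcreteCategory.isIso_iff_bijective (Scheme.ΓSpecIso (CommRingCat.of R)).hom).mp inferInstance).1
  have h := congrArg (fun g => g.hom s) (Scheme.ΓSpecIso_naturality (CommRingCat.ofHom (frobenius R p)))
  simp only [CommRingCat.hom_comp, RingHom.comp_apply] at h
  rw [map_pow]
  exact h.symm

theorem flat_same {A B : Type u} [CommRing A] [CharP A p] [CommRing B] [Algebra A B] [CharP B p]
    [Algebra.Smooth A B] : (FrobAlg.relFrob p A B).Flat := by
  haveI : FrobSch.IsCharP (Spec (CommRingCat.of A)) p := FrobSch.isCharP_Spec A p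
  haveI : FrobSch.IsCharP (Spec (CommRingCat.of B)) p := FrobSch.isCharP_Spec B p
  let f := Spec.map (CommRingCat.ofHom (algebraMap A B))
  haveI : Smooth f := by
    rw [HasRingHomProperty.Spec_iff (P := @Smooth)]
    exact RingHom.smooth_algebraMap.mpr ‹_›
  have hflat := RelFrobFlat12.flat_relFrob p f
  have h0 : IsPushout (CommRingCat.ofHom (algebraMap A B)) (CommRingCat.ofHom (algebraMap A (FrobAlg.Twist p A)))
      (CommRingCat.ofHom (Algebra.TensorProduct.includeLeftRingHom : B →+* FrobAlg.BaseChange p A B))
      (CommRingCat.ofHom (Algebra.TensorProduct.includeRight : FrobAlg.Twist p A →ₐ[A] FrobAlg.BaseChange p A B).toRingHom) :=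
    CommRingCat.isPushout_tensorProduct A B (FrobAlg.Twist p A)
  have sq := isPullback_SpecMap_of_isPushout _ _ _ _ h0
  have hbot : FrobSch.frob (Spec (CommRingCat.of A)) p =
      Spec.map (CommRingCat.ofHom (algebraMap A (FrobAlg.Twist p A))) := frob_Spec p A
  have sq' : IsPullback (Spec.map (CommRingCat.ofHom (Algebra.TensorProduct.includeLeftRingHom : B →+* FrobAlg.BaseChange p A B)))
      (Spec.map (CommRingCat.ofHom (Algebra.TensorProduct.includeRight : FrobAlg.Twist p A →ₐ[A] FrobAlg.BaseChange p A B).toRingHom))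
      f (FrobSch.frob (Spec (CommRingCat.of A)) p) := hbot ▸ sq
  have key : Spec.map (CommRingCat.ofHom (FrobAlg.relFrob p A B)) ≫ sq'.isoPullback.hom = FrobSch.relFrob f p := by
    apply pullback.hom_ext
    · rw [Category.assoc, sq'.isoPullback_hom_fst]
      refine Eq.trans ?_ (FrobSch.relFrob_fst f p).symm
      rw [frob_Spec p B, ← Spec.map_comp]
      congr 1
      refine CommRingCat.hom_ext (RingHom.ext fun b => ?_)
      show FrobAlg.relFrob p A B (b ⊗ₜ[A] (1 : FrobAlg.Twist p A)) = frobenius B p b
      rw [relFrob_tmul, frobenius_def, map_one, map_one, mul_one]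
    · rw [Category.assoc, sq'.isoPullback_hom_snd]
      refine Eq.trans ?_ (FrobSch.relFrob_snd f p).symm
      rw [← Spec.map_comp]
      congr 1
      refine CommRingCat.hom_ext (RingHom.ext fun a => ?_)
      show FrobAlg.relFrob p A B ((1 : B) ⊗ₜ[A] (FrobAlg.toTwist p A a)) = algebraMap A B a
      rw [relFrob_tmul, one_pow, one_mul, RingEquiv.symm_apply_apply]
  haveI : Flat (Spec.map (CommRingCat.ofHom (FrobAlg.relFrob p A B))) := by
    rw [← MorphismProperty.cancel_right_of_respectsIso @Flat _ sq'.isoPullback.hom, key]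
    exact hflat
  exact (HasRingHomProperty.Spec_iff (P := @Flat)).mp this

theorem flat_relFrob {A : Type u} [CommRing A] [CharP A p] {B : Type v} [CommRing B] [Algebra A B]
    [CharP B p] [Algebra.Smooth A B] : (FrobAlg.relFrob p A B).Flat := by
  obtain ⟨n, π, hπ⟩ := Algebra.FiniteType.iff_quotient_mvPolynomial''.mp
    (inferInstance : Algebra.FiniteType A B)
  haveI : Small.{u} B := small_of_surjective hπ
  let e : Shrink.{u} B ≃ₐ[A] B := Shrink.algEquiv A B
  haveI : CharP (Shrink.{u} B) p := charP_of_injective_ringHom (f := e.symm.toRingEquiv.toRingHom) e.symm.injective p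
  haveI : Algebra.Smooth A (Shrink.{u} B) := Algebra.Smooth.of_equiv e.symm
  let E : FrobAlg.BaseChange p A B ≃ₐ[A] FrobAlg.BaseChange p A (Shrink.{u} B) :=
    Algebra.TensorProduct.congr e.symm AlgEquiv.refl
  have h : (e : Shrink.{u} B →+* B).comp ((FrobAlg.relFrob p A (Shrink.{u} B)).comp E.toAlgHom.toRingHom) =
      FrobAlg.relFrob p A B := by
    refine RingHom.ext fun x => ?_
    induction x using TensorProduct.induction_on with
    | zero => simp
    | add u v hu hv => simp only [map_add, hu, hv]
    | tmul b a =>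
      show e (FrobAlg.relFrob p A (Shrink.{u} B) (e.symm b ⊗ₜ[A] a)) = _
      rw [relFrob_tmul, relFrob_tmul, map_mul, map_pow, e.apply_symm_apply, e.commutes]
  rw [← h]
  exact RingHom.Flat.comp (RingHom.Flat.comp (RingHom.Flat.of_bijective E.bijective) (flat_same p))
    (RingHom.Flat.of_bijective e.bijective)

end Groth.Agent.RelFrobAlg28
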