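import Mathlib

/-!
# Rank of the relative Frobenius: the computation over a field
-/

set_option autoImplicit false
universe u

open TensorProduct

namespace Groth.Agent.RelFrobAlg28

theorem subalgebra_eq_top_of_cotangent {K Q : Type*} [CommRing K] [CommRing Q] [Algebra K Q]
    (S : Subalgebra K Q) (n : Ideal Q) (hn : IsNilpotent n)
    (h : ∀ x : Q, ∃ s ∈ S, x - s ∈ n ^ 2) : S = ⊤ := by
  have step : ∀ k : ℕ, ∀ x ∈ n ^ (k + 1), ∃ s ∈ S, x - s ∈ n ^ (k + 2) := by
    intro k
    induction k with
    | zero => intro x _; exact h x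
    | succ k ih =>
      intro x hx
      rw [pow_succ] at hx
      induction hx using Submodule.mul_induction_on' with
      | mem_mul_mem a ha b hb =>
        obtain ⟨s, hs, hsa⟩ := ih a ha
        obtain ⟨t, ht, htb⟩ := h b
        refine ⟨s * t, mul_mem hs ht, ?_⟩
        have hs' : s ∈ n ^ (k + 1) := by
          have h1 := Ideal.pow_le_pow_right (show k + 1 ≤ k + 2 by omega) hsa
          have h2 := sub_mem ha h1
          simpa using h2
        have e : a * b - s * t = (a - s) * b + s * (b - t) := by ring
        rw [e]
        refine add_mem ?_ ?_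
        · have := Ideal.mul_mem_mul hsa hb
          rwa [← pow_succ] at this
        · have := Ideal.mul_mem_mul hs' htb
          rw [← pow_add] at this
          exact this
      | add a ha b hb ia ib =>
        obtain ⟨s, hs, hsa⟩ := ia
        obtain ⟨t, ht, htb⟩ := ib
        exact ⟨s + t, add_mem hs ht, by simpa [add_sub_add_comm] using add_mem hsa htb⟩
  have all : ∀ k : ℕ, ∀ x : Q, ∃ s ∈ S, x - s ∈ n ^ (k + 2) := by
    intro k
    induction k with
    | zero => exact h
    | succ k ih =>
      intro x
      obtain ⟨s, hs, hx⟩ := ih x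
      obtain ⟨t, ht, hxt⟩ := step (k + 1) _ hx
      exact ⟨s + t, add_mem hs ht, by simpa [sub_sub] using hxt⟩
  obtain ⟨N, hN⟩ := hn
  rw [eq_top_iff]
  intro x _
  obtain ⟨s, hs, hx⟩ := all N x
  have : x - s = 0 := by
    have h0 : n ^ (N + 2) = ⊥ := by
      rw [pow_add, hN]; simp
    rw [h0] at hx
    simpa using hx
  rw [sub_eq_zero] at this
  exact this ▸ hs

section GroupAlgebra

variable (p : ℕ) [Fact p.Prime] (r : ℕ) (K : Type u) [Field K] [CharP K p]

/-- The group algebra of `(ℤ/p)^r`: the model of the local ring `K[X]/(X^p)`. -/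
abbrev Mod28 : Type u := AddMonoidAlgebra K (Fin r → ZMod p)

noncomputable def aug28 : Mod28 p r K →ₐ[K] K :=
  AddMonoidAlgebra.lift K K (Fin r → ZMod p) 1

noncomputable def lin28 : Mod28 p r K →ₐ[K] TrivSqZeroExt K (Fin r → K) :=
  AddMonoidAlgebra.lift K _ (Fin r → ZMod p)
    { toFun := fun g => TrivSqZeroExt.inl 1 +
        TrivSqZeroExt.inr (fun i => ZMod.castHom (dvd_refl p) K (g.toAdd i))
      map_one' := by
        ext <;> simp
      map_mul' := fun g h => by
        ext i
        · simp
        · simp only [toAdd_mul, Pi.add_apply, map_add, TrivSqZeroExt.snd_mul, TrivSqZeroExt.fst_add,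
            TrivSqZeroExt.snd_add, TrivSqZeroExt.fst_inl, TrivSqZeroExt.snd_inl,
            TrivSqZeroExt.fst_inr, TrivSqZeroExt.snd_inr, Pi.smul_apply, smul_eq_mul, zero_add,
            add_zero, MulOpposite.op_one, one_smul, one_mul, Pi.zero_apply]
          ring }

theorem lin28_single (g : Fin r → ZMod p) (c : K) :
    lin28 p r K (AddMonoidAlgebra.single g c) = c • (TrivSqZeroExt.inl 1 +
      TrivSqZeroExt.inr (fun i => ZMod.castHom (dvd_refl p) K (g i))) := by
  simp [lin28, AddMonoidAlgebra.lift_single]

theorem aug28_single (g : Fin r → ZMod p) (c : K) :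
    aug28 p r K (AddMonoidAlgebra.single g c) = c := by
  simp [aug28, AddMonoidAlgebra.lift_single]

theorem fst_lin28 (x : Mod28 p r K) : (lin28 p r K x).fst = aug28 p r K x := by
  induction x using AddMonoidAlgebra.induction_linear with
  | zero => simp
  | add a b ha hb => simp [ha, hb]
  | single g c => simp [lin28_single, aug28_single]

theorem pow_p_mod28 (x : Mod28 p r K) :
    x ^ p = algebraMap K (Mod28 p r K) (aug28 p r K x ^ p) := by
  haveI : CharP (Mod28 p r K) p := charP_of_injective_algebraMap
    (algebraMap K (Mod28 p r K)).injective p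
  induction x using AddMonoidAlgebra.induction_linear with
  | zero => simp [zero_pow (Fact.out : p.Prime).ne_zero]
  | add a b ha hb => rw [add_pow_char, ha, hb, map_add, add_pow_char, map_add]
  | single g c =>
    rw [AddMonoidAlgebra.single_pow, aug28_single]
    have : p • g = 0 := by
      funext i; simp [nsmul_eq_mul]
    simp [this]

noncomputable abbrev J28 : Ideal (Mod28 p r K) := RingHom.ker (aug28 p r K).toRingHom

theorem finrank_mod28 : Module.finrank K (Mod28 p r K) = p ^ r := by
  rw [Module.finrank_eq_card_basis (AddMonoidAlgebra.basis (Fin r → ZMod p) K)]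
  simp

instance finite_mod28 : Module.Finite K (Mod28 p r K) :=
  Module.Finite.of_basis (AddMonoidAlgebra.basis (Fin r → ZMod p) K)

theorem isNilpotent_J28 : IsNilpotent (J28 p r K) := by
  haveI : IsNoetherianRing (Mod28 p r K) := isNoetherian_of_tower K inferInstance
  rw [Ideal.FG.isNilpotent_iff_le_nilradical (IsNoetherian.noetherian _)]
  intro x hx
  refine ⟨p, ?_⟩
  rw [RingHom.mem_ker] at hx
  rw [pow_p_mod28, show aug28 p r K x = 0 from hx, zero_pow (Fact.out : p.Prime).ne_zero, map_zero]
  exact Ideal.zero_mem _

noncomputable def u28 (i : Fin r) : Mod28 p r K :=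
  AddMonoidAlgebra.single (Pi.single i (1 : ZMod p)) (1 : K) - 1

theorem sub_mem_J28_sq (x : Mod28 p r K) :
    x - algebraMap K _ (aug28 p r K x) - ∑ i, (lin28 p r K x).snd i • u28 p r K i ∈
      J28 p r K ^ 2 := by
  let φ : (Fin r → ZMod p) →+ Mod28 p r K ⧸ J28 p r K ^ 2 := AddMonoidHom.mk'
    (fun g => Ideal.Quotient.mk _ (AddMonoidAlgebra.single g (1 : K) - 1)) (fun g h => by
      rw [← map_add, Ideal.Quotient.eq, show (AddMonoidAlgebra.single (g + h) (1 : K) - 1 -
          (AddMonoidAlgebra.single g 1 - 1 + (AddMonoidAlgebra.single h 1 - 1)) : Mod28 p r K) =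
          (AddMonoidAlgebra.single g 1 - 1) * (AddMonoidAlgebra.single h 1 - 1) by
        simp only [sub_mul, mul_sub, one_mul, mul_one, AddMonoidAlgebra.single_mul_single]
        ring, sq]
      refine Ideal.mul_mem_mul ?_ ?_ <;> simp [aug28_single, RingHom.mem_ker])
  let ψ : (Fin r → ZMod p) →+ Mod28 p r K ⧸ J28 p r K ^ 2 := AddMonoidHom.mk'
    (fun g => Ideal.Quotient.mk _ (∑ i, ZMod.castHom (dvd_refl p) K (g i) • u28 p r K i))
    (fun g h => by simp only [Pi.add_apply, map_add, add_smul, Finset.sum_add_distrib])
  have hφψ : φ = ψ := by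
    refine AddMonoidHom.functions_ext (Mod28 p r K ⧸ J28 p r K ^ 2) φ ψ fun i a => ?_
    have ha : Pi.single (M := fun _ : Fin r => ZMod p) i a = a.val • Pi.single i (1 : ZMod p) := by
      rw [← Pi.single_smul', nsmul_eq_mul, mul_one, ZMod.natCast_zmod_val]
    rw [ha, map_nsmul, map_nsmul]
    congr 1
    show Ideal.Quotient.mk _ _ = Ideal.Quotient.mk _ _
    congr 1
    rw [Finset.sum_eq_single i]
    · simp [u28]
    · intro j _ hj; simp [hj]
    · simp
  induction x using AddMonoidAlgebra.induction_linear with
  | zero => simp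
  | add a b ha hb =>
    have := add_mem ha hb
    convert this using 1
    simp only [map_add, TrivSqZeroExt.snd_add, Pi.add_apply, add_smul, Finset.sum_add_distrib]
    abel
  | single g c =>
    have h := DFunLike.congr_fun hφψ g
    change Ideal.Quotient.mk _ _ = Ideal.Quotient.mk _ _ at h
    rw [Ideal.Quotient.eq] at h
    have := (J28 p r K ^ 2).mul_mem_left (algebraMap K _ c) h
    convert this using 1
    rw [aug28_single, lin28_single]
    simp only [TrivSqZeroExt.snd_smul, TrivSqZeroExt.snd_add, TrivSqZeroExt.snd_inl,
      TrivSqZeroExt.snd_inr, zero_add, Pi.smul_apply, smul_eq_mul]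
    rw [mul_sub, mul_sub, mul_one, Finset.mul_sum, ← Algebra.smul_def, AddMonoidAlgebra.smul_single,
      smul_eq_mul, mul_one]
    congr 1
    exact Finset.sum_congr rfl fun i _ => by rw [← Algebra.smul_def, smul_smul]

theorem ker_lin28_le : RingHom.ker (lin28 p r K).toRingHom ≤ J28 p r K ^ 2 := by
  intro x hx
  rw [RingHom.mem_ker] at hx
  have hx' : lin28 p r K x = 0 := hx
  have h := sub_mem_J28_sq p r K x
  rw [← fst_lin28, hx'] at h
  simpa using h

theorem lin28_u28 (i : Fin r) : lin28 p r K (u28 p r K i) = TrivSqZeroExt.inr (Pi.single i 1) := by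
  rw [u28, map_sub, map_one, lin28_single]
  ext j
  · simp
  · by_cases h : j = i
    · subst h; simp
    · simp [h]

theorem lin28_surjective : Function.Surjective (lin28 p r K) := by
  intro y
  refine ⟨algebraMap K _ y.fst + ∑ i, y.snd i • u28 p r K i, ?_⟩
  simp only [map_add, AlgHom.commutes, map_sum, map_smul, lin28_u28]
  ext j
  · simp [TrivSqZeroExt.algebraMap_eq_inl, TrivSqZeroExt.fst_sum]
  · simp [TrivSqZeroExt.algebraMap_eq_inl, TrivSqZeroExt.snd_sum, Pi.single_apply]

theorem finrank_eq_of_field {A P B : Type u} [CommRing A] [CommRing P] [CommRing B]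
    [Algebra A B] [Algebra P B] [Algebra A K] [Algebra P K] [Algebra B K]
    [IsScalarTower A B K] [IsScalarTower P B K] [Module.Finite P B] [Algebra.Smooth A B]
    (hA : ∀ a : A, ∃ x : P, algebraMap P B x = algebraMap A B a)
    (hp : ∀ b : B, ∃ x : P, algebraMap P B x = b ^ p)
    (hgen : ∀ x : P, algebraMap P B x ∈ Algebra.adjoin A (Set.range fun b : B => b ^ p))
    (hΩ : Module.finrank K (K ⊗[B] KaehlerDifferential A B) = r) :
    Module.finrank K (K ⊗[P] B) = p ^ r := by
  set T := K ⊗[B] KaehlerDifferential A B
  haveI : Module.Finite K T := Module.Finite.base_change B K _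
  let e : Module.Basis (Fin r) K T := (Module.finBasisOfFinrankEq K T hΩ)
  apply le_antisymm
  · -- the upper bound
    haveI : SMulCommClass P A K := ⟨fun x a k => by simp only [Algebra.smul_def]; ring⟩
    let χ : B →ₐ[P] K := IsScalarTower.toAlgHom P B K
    let ev : K ⊗[P] B →ₐ[K] K := Algebra.TensorProduct.lift (AlgHom.id K K) χ (fun _ _ => .all _ _)
    let n : Ideal (K ⊗[P] B) := RingHom.ker ev.toRingHom
    haveI : CharP (K ⊗[P] B) p := by
      haveI : Nontrivial (K ⊗[P] B) := ev.toRingHom.domain_nontrivial
      exact charP_of_injective_algebraMap (algebraMap K (K ⊗[P] B)).injective p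
    have hev : ∀ k b, ev (k ⊗ₜ[P] b) = k * algebraMap B K b := fun k b => by
      simp [ev, χ]
    have hpow : ∀ x : K ⊗[P] B, x ^ p = algebraMap K _ (ev x ^ p) := by
      intro x
      induction x using TensorProduct.induction_on with
      | zero => simp [zero_pow (Fact.out : p.Prime).ne_zero]
      | add a b ha hb => rw [add_pow_char, ha, hb, map_add ev, add_pow_char, map_add]
      | tmul k b =>
        obtain ⟨x, hx⟩ := hp b
        rw [Algebra.TensorProduct.tmul_pow, hev, mul_pow, ← map_pow, ← hx,
          ← IsScalarTower.algebraMap_apply, Algebra.TensorProduct.algebraMap_apply,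
          Algebra.algebraMap_self, RingHom.id_apply, mul_comm, ← Algebra.smul_def,
          TensorProduct.smul_tmul, Algebra.smul_def, mul_one]
    haveI : IsNoetherianRing (K ⊗[P] B) := isNoetherian_of_tower K inferInstance
    have hn : IsNilpotent n := by
      rw [Ideal.FG.isNilpotent_iff_le_nilradical (IsNoetherian.noetherian _)]
      intro x hx
      refine ⟨p, ?_⟩
      rw [hpow, show ev x = 0 from hx, zero_pow (Fact.out : p.Prime).ne_zero, map_zero]
      exact Ideal.zero_mem _
    let y : B → K ⊗[P] B := fun b => 1 ⊗ₜ b - algebraMap B K b ⊗ₜ 1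
    have hy : ∀ b, y b ∈ n := fun b => by
      show ev (y b) = 0
      simp [y, hev]
    have hysmul : ∀ (a : A) b, y (a • b) = algebraMap A K a • y b := by
      intro a b
      obtain ⟨x, hx⟩ := hA a
      have hk : algebraMap A K a = algebraMap P K x := by
        rw [IsScalarTower.algebraMap_apply A B K, ← hx, ← IsScalarTower.algebraMap_apply]
      rw [hk, algebraMap_smul]
      simp only [y, smul_sub, TensorProduct.smul_tmul', Algebra.smul_def a b, ← hx, map_mul,
        ← IsScalarTower.algebraMap_apply]
      rw [← Algebra.smul_def, ← Algebra.smul_def]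
      simp only [TensorProduct.tmul_smul, TensorProduct.smul_tmul']
    let q := Ideal.Quotient.mkₐ K (n ^ 2)
    let δl : B →ₗ[A] ((K ⊗[P] B) ⧸ n ^ 2) :=
      { toFun := fun b => q (y b)
        map_add' := fun b c => by
          rw [← map_add]; congr 1
          simp only [y, TensorProduct.tmul_add, map_add, TensorProduct.add_tmul]; abel
        map_smul' := fun a b => by
          rw [hysmul, map_smul, RingHom.id_apply, algebraMap_smul] }
    let δ : Derivation A B ((K ⊗[P] B) ⧸ n ^ 2) := Derivation.mk' δl (fun b c => by
      show q (y (b * c)) = b • q (y c) + c • q (y b)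
      rw [← algebraMap_smul K b, ← algebraMap_smul K c, ← map_smul, ← map_smul, ← map_add]
      show Ideal.Quotient.mk _ _ = Ideal.Quotient.mk _ _
      rw [Ideal.Quotient.eq]
      have := Ideal.mul_mem_mul (hy b) (hy c)
      rw [← sq] at this
      convert this using 1
      simp only [y, Algebra.smul_def, map_mul, Algebra.TensorProduct.algebraMap_apply,
        Algebra.algebraMap_self, RingHom.id_apply, sub_mul, mul_sub,
        Algebra.TensorProduct.tmul_mul_tmul, one_mul, mul_one]
      rw [mul_comm (algebraMap B K c) (algebraMap B K b)]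
      abel)
    let L : T →ₗ[K] ((K ⊗[P] B) ⧸ n ^ 2) := δ.liftKaehlerDifferential.liftBaseChange K
    have hL : ∀ t : T, L t ∈ Submodule.map q.toLinearMap (n.restrictScalars K) := by
      intro t
      induction t using TensorProduct.induction_on with
      | zero => rw [map_zero]; exact zero_mem _
      | add a b ha hb => rw [map_add]; exact add_mem ha hb
      | tmul k w =>
        rw [LinearMap.liftBaseChange_tmul]
        refine Submodule.smul_mem _ k ?_
        have hw : w ∈ Submodule.span B (Set.range (KaehlerDifferential.D A B)) := by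
          rw [KaehlerDifferential.span_range_derivation]; trivial
        induction hw using Submodule.span_induction with
        | mem _ h =>
          obtain ⟨b, rfl⟩ := h
          rw [Derivation.liftKaehlerDifferential_comp_D]
          exact ⟨y b, hy b, rfl⟩
        | zero => rw [map_zero]; exact zero_mem _
        | add a b _ _ ha hb => rw [map_add]; exact add_mem ha hb
        | smul b w _ hw =>
          rw [map_smul, ← algebraMap_smul K b]
          exact Submodule.smul_mem _ _ hw
    choose z hz hzq using fun i => hL (e i)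
    have hz1 : ∀ i, (1 + z i) ^ p = 1 := fun i => by
      rw [add_pow_char, one_pow, hpow, show ev (z i) = 0 from hz i,
        zero_pow (Fact.out : p.Prime).ne_zero, map_zero, add_zero]
    let G : Multiplicative (Fin r → ZMod p) →* K ⊗[P] B :=
      { toFun := fun g => ∏ i, (1 + z i) ^ (g.toAdd i).val
        map_one' := by simp
        map_mul' := fun g h => by
          rw [← Finset.prod_mul_distrib]
          refine Finset.prod_congr rfl fun i _ => ?_
          rw [toAdd_mul, Pi.add_apply, ← pow_add, ZMod.val_add]
          exact (pow_eq_pow_mod _ (hz1 i)).symm }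
    let Ψ : Mod28 p r K →ₐ[K] K ⊗[P] B := AddMonoidAlgebra.lift K _ _ G
    have hΨu : ∀ i, Ψ (u28 p r K i) = z i := by
      intro i
      rw [u28, map_sub, map_one, AddMonoidAlgebra.lift_single, one_smul]
      show (∏ j, (1 + z j) ^ ((Pi.single i (1 : ZMod p) : Fin r → ZMod p) j).val) - 1 = _
      rw [Finset.prod_eq_single i]
      · haveI : Fact (1 < p) := ⟨(Fact.out : p.Prime).one_lt⟩
        simp [ZMod.val_one]
      · intro j _ hj; simp [hj]
      · simp
    have hsurj : Ψ.range = ⊤ := by
      refine subalgebra_eq_top_of_cotangent _ n hn fun x => ?_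
      induction x using TensorProduct.induction_on with
      | zero => exact ⟨0, zero_mem _, by simp⟩
      | add a b ha hb =>
        obtain ⟨s, hs, hsa⟩ := ha
        obtain ⟨t, ht, htb⟩ := hb
        exact ⟨s + t, add_mem hs ht, by simpa [add_sub_add_comm] using add_mem hsa htb⟩
      | tmul k b =>
        have hb : q (y b) = ∑ i, e.repr ((1 : K) ⊗ₜ KaehlerDifferential.D A B b) i • q (z i) := by
          have : L ((1 : K) ⊗ₜ KaehlerDifferential.D A B b) = q (y b) := by
            rw [LinearMap.liftBaseChange_tmul, one_smul, Derivation.liftKaehlerDifferential_comp_D]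
            rfl
          rw [← this]
          conv_lhs => rw [← e.sum_repr ((1 : K) ⊗ₜ KaehlerDifferential.D A B b)]
          rw [map_sum]
          exact Finset.sum_congr rfl fun i _ => by rw [map_smul, ← hzq i]; rfl
        refine ⟨k • (algebraMap K _ (algebraMap B K b) +
          ∑ i, e.repr ((1 : K) ⊗ₜ KaehlerDifferential.D A B b) i • z i), ?_, ?_⟩
        · refine Subalgebra.smul_mem _ (add_mem (Subalgebra.algebraMap_mem _ _)
            (Subalgebra.sum_mem _ fun i _ => Subalgebra.smul_mem _ ((AlgHom.mem_range Ψ).mpr ⟨u28 p r K i, hΨu i⟩) _)) k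
        · simp only [← map_smul, ← map_sum] at hb
          have h := Ideal.Quotient.eq.mp hb
          have := Submodule.smul_of_tower_mem (n ^ 2) k h
          convert this using 1
          simp only [y, smul_sub, smul_add, Algebra.TensorProduct.algebraMap_apply,
            Algebra.algebraMap_self, RingHom.id_apply, TensorProduct.smul_tmul', smul_eq_mul, mul_one]
          abel
    have := Ψ.toLinearMap.finrank_range_le
    rw [finrank_mod28] at this
    have htop : LinearMap.range Ψ.toLinearMap = ⊤ :=
      LinearMap.range_eq_top.mpr (AlgHom.range_eq_top Ψ |>.mp hsurj)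
    rwa [htop, finrank_top] at this
  · -- the lower bound
    letI : Algebra A (Mod28 p r K) := inferInstance
    let v : B → Fin r → K := fun b i => e.repr ((1 : K) ⊗ₜ KaehlerDifferential.D A B b) i
    have hv_mul : ∀ b c i, v (b * c) i = algebraMap B K b * v c i + algebraMap B K c * v b i := by
      intro b c i
      simp only [v, Derivation.leibniz, TensorProduct.tmul_add, TensorProduct.tmul_smul, map_add,
        Finsupp.coe_add, Pi.add_apply]
      rw [← algebraMap_smul K b ((1 : K) ⊗ₜ[B] _), ← algebraMap_smul K c ((1 : K) ⊗ₜ[B] _),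
        map_smul, map_smul, Finsupp.smul_apply, Finsupp.smul_apply, smul_eq_mul, smul_eq_mul]
    let g : B →ₐ[A] TrivSqZeroExt K (Fin r → K) :=
      { toFun := fun b => TrivSqZeroExt.inl (algebraMap B K b) + TrivSqZeroExt.inr (v b)
        map_one' := by ext <;> simp [v]
        map_mul' := fun b c => by
          ext i
          · simp
          · simp only [TrivSqZeroExt.snd_mul, TrivSqZeroExt.fst_add, TrivSqZeroExt.snd_add,
              TrivSqZeroExt.fst_inl, TrivSqZeroExt.snd_inl, TrivSqZeroExt.fst_inr,
              TrivSqZeroExt.snd_inr, Pi.add_apply, Pi.smul_apply, MulOpposite.smul_eq_mul_unop,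
              MulOpposite.unop_op, smul_eq_mul, zero_add, add_zero, Pi.zero_apply, hv_mul]
            ring
        map_zero' := by ext <;> simp [v]
        map_add' := fun b c => by
          ext i
          · simp
          · simp [v, TensorProduct.tmul_add]
        commutes' := fun a => by
          rw [IsScalarTower.algebraMap_apply A K (TrivSqZeroExt K (Fin r → K)),
            TrivSqZeroExt.algebraMap_eq_inl]
          ext i
          · simp [← IsScalarTower.algebraMap_apply]
          · simp [v] }
    let π : Mod28 p r K →ₐ[A] TrivSqZeroExt K (Fin r → K) := (lin28 p r K).restrictScalars A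
    have hker : RingHom.ker (π : Mod28 p r K →+* TrivSqZeroExt K (Fin r → K)) ≤ J28 p r K := by
      intro x hx
      exact Ideal.pow_le_self (two_ne_zero) (ker_lin28_le p r K hx)
    have hkn : IsNilpotent (RingHom.ker (π : Mod28 p r K →+* TrivSqZeroExt K (Fin r → K))) := by
      obtain ⟨N, hN⟩ := isNilpotent_J28 p r K
      exact ⟨N, le_bot_iff.mp ((Ideal.pow_right_mono hker N).trans (le_of_eq hN))⟩
    let φ : B →ₐ[A] Mod28 p r K :=
      Algebra.FormallySmooth.liftOfSurjective g π (lin28_surjective p r K) hkn
    have hφ : ∀ b, lin28 p r K (φ b) = g b :=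
      fun b => Algebra.FormallySmooth.liftOfSurjective_apply g π (lin28_surjective p r K) hkn b
    have hφp : ∀ b, φ (b ^ p) = algebraMap K (Mod28 p r K) (algebraMap B K (b ^ p)) := by
      intro b
      rw [map_pow, pow_p_mod28, ← fst_lin28, hφ]
      simp [g]
    have hφx : ∀ x : P, φ (algebraMap P B x) = algebraMap P (Mod28 p r K) x := by
      intro x
      rw [IsScalarTower.algebraMap_apply P K (Mod28 p r K), IsScalarTower.algebraMap_apply P B K]
      have := hgen x
      generalize algebraMap P B x = w at this ⊢
      induction this using Algebra.adjoin_induction with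
      | mem _ h => obtain ⟨b, rfl⟩ := h; exact hφp b
      | algebraMap a =>
        rw [AlgHom.commutes, IsScalarTower.algebraMap_apply A K (Mod28 p r K),
          IsScalarTower.algebraMap_apply A B K]
      | add a b _ _ ha hb => simp only [map_add, ha, hb]
      | mul a b _ _ ha hb => simp only [map_mul, ha, hb]
    let φP : B →ₐ[P] Mod28 p r K := { φ.toRingHom with commutes' := hφx }
    let Φ : K ⊗[P] B →ₐ[K] Mod28 p r K :=
      Algebra.TensorProduct.lift (Algebra.ofId K _) φP (fun _ _ => .all _ _)
    have hΦ : ∀ k b, Φ (k ⊗ₜ b) = algebraMap K _ k * φ b := fun k b => by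
      simp [Φ, φP]
    let S := Φ.range
    have hspan : ∀ t : T, ∃ s ∈ S, (lin28 p r K s).snd = fun i => e.repr t i := by
      intro t
      induction t using TensorProduct.induction_on with
      | zero => exact ⟨0, zero_mem _, by ext i; simp⟩
      | add a b ha hb =>
        obtain ⟨s, hs, hsa⟩ := ha
        obtain ⟨t, ht, htb⟩ := hb
        exact ⟨s + t, add_mem hs ht, by ext i; simp [hsa, htb]⟩
      | tmul k w =>
        have hw : w ∈ Submodule.span B (Set.range (KaehlerDifferential.D A B)) := by
          rw [KaehlerDifferential.span_range_derivation]; trivial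
        induction hw using Submodule.span_induction generalizing k with
        | mem _ h =>
          obtain ⟨b, rfl⟩ := h
          refine ⟨Φ (k ⊗ₜ b), ⟨_, rfl⟩, ?_⟩
          funext i
          rw [hΦ, ← Algebra.smul_def, map_smul, hφ]
          have : k ⊗ₜ[B] KaehlerDifferential.D A B b =
              k • ((1 : K) ⊗ₜ[B] KaehlerDifferential.D A B b) := by
            rw [TensorProduct.smul_tmul', smul_eq_mul, mul_one]
          rw [this, map_smul]
          simp [g, v]
        | zero => exact ⟨0, zero_mem _, by ext i; simp⟩
        | add a b _ _ ha hb =>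
          obtain ⟨s, hs, hsa⟩ := ha k
          obtain ⟨t, ht, htb⟩ := hb k
          exact ⟨s + t, add_mem hs ht, by ext i; simp [hsa, htb, TensorProduct.tmul_add]⟩
        | smul b w _ hw =>
          obtain ⟨s, hs, hsb⟩ := hw (b • k)
          exact ⟨s, hs, by rw [hsb, TensorProduct.smul_tmul]⟩
    have htop : S = ⊤ := by
      refine subalgebra_eq_top_of_cotangent S _ (isNilpotent_J28 p r K) fun x => ?_
      let c : T := ∑ i, (lin28 p r K x).snd i • e i
      obtain ⟨s, hs, hsx⟩ := hspan c
      refine ⟨algebraMap K _ (lin28 p r K x).fst + (s - algebraMap K _ (lin28 p r K s).fst),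
        add_mem (Subalgebra.algebraMap_mem _ _) (sub_mem hs (Subalgebra.algebraMap_mem _ _)), ?_⟩
      refine ker_lin28_le p r K ?_
      rw [RingHom.mem_ker]
      show lin28 p r K _ = 0
      simp only [map_sub, map_add, AlgHom.commutes, TrivSqZeroExt.algebraMap_eq_inl]
      ext i
      · simp
      · simp only [TrivSqZeroExt.snd_sub, TrivSqZeroExt.snd_add, TrivSqZeroExt.snd_inl, hsx,
          TrivSqZeroExt.snd_zero, Pi.sub_apply, Pi.add_apply, Pi.zero_apply, sub_zero, zero_add, c]
        simp [Finsupp.single_apply]
    rw [← finrank_mod28 p r K]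
    exact LinearMap.finrank_le_finrank_of_surjective (f := Φ.toLinearMap)
      ((AlgHom.range_eq_top Φ).mp htop)

end GroupAlgebra

end Groth.Agent.RelFrobAlg28
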